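import Groth.Agent.ProperFin.Main
import Groth.Agent.QCohLib.Coherent

/-!
# Dimension inequalities along an exact sequence of coherent modules
-/

set_option autoImplicit false
set_option backward.isDefEq.respectTransparency false
set_option linter.style.haveILetI false

universe u

open CategoryTheory CategoryTheory.Limits AlgebraicGeometry TopologicalSpace Opposite

noncomputable section

namespace Groth.Agent.EulerIneqLib

variable {k : Type u} [Field k] {X : Scheme.{u}} [X.Over (Spec (CommRingCat.of k))]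
  [IsProper (X ↘ Spec (CommRingCat.of k))]

omit [IsProper (X ↘ Spec (CommRingCat.of k))] in
theorem isNoetherian_proper (k : Type u) [Field k] [X.Over (Spec (CommRingCat.of k))]
    [IsProper (X ↘ Spec (CommRingCat.of k))] : IsNoetherian X := by
  haveI : IsLocallyNoetherian X := LocallyOfFiniteType.isLocallyNoetherian (X ↘ Spec (CommRingCat.of k))
  haveI : CompactSpace X := QuasiCompact.compactSpace_of_compactSpace (X ↘ Spec (CommRingCat.of k))
  exact ⟨⟩

theorem finite_HH {M : X.Modules} (hM : Coh.IsCoh M) (n : ℕ) : Module.Finite k (Coh.HH X M n) :=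
  haveI := isNoetherian_proper (X := X) k
  ProperFin.allFin_of_isCoh (A := k) (X ↘ Spec (CommRingCat.of k)) M hM n

theorem finrank_le_add {M N P : Type u} [AddCommGroup M] [Module k M] [AddCommGroup N] [Module k N] [AddCommGroup P]
    [Module k P] [Module.Finite k M] [Module.Finite k N] [Module.Finite k P] (f : M →ₗ[k] N) (g : N →ₗ[k] P)
    (h : LinearMap.range f = LinearMap.ker g) :
    Module.finrank k N ≤ Module.finrank k M + Module.finrank k P := by
  have h1 := g.finrank_range_add_finrank_ker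
  have h2 : Module.finrank k (LinearMap.ker g) ≤ Module.finrank k M := h ▸ f.finrank_range_le
  have h3 := Submodule.finrank_le (LinearMap.range g)
  omega

theorem ineqs (S : ShortComplex X.Modules) (hS : S.ShortExact) (h₁ : Coh.IsCoh S.X₁) (h₂ : Coh.IsCoh S.X₂)
    (h₃ : Coh.IsCoh S.X₃) :
    Module.finrank k (Coh.HH X S.X₁ 0) ≤ Module.finrank k (Coh.HH X S.X₂ 0) ∧
      (∀ n, Module.finrank k (Coh.HH X S.X₁ (n + 1)) ≤
        Module.finrank k (Coh.HH X S.X₂ (n + 1)) + Module.finrank k (Coh.HH X S.X₃ n)) ∧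
      ∀ n, Module.finrank k (Coh.HH X S.X₂ n) ≤
        Module.finrank k (Coh.HH X S.X₁ n) + Module.finrank k (Coh.HH X S.X₃ n) := by
  have hS' := QCohLib.toAb_shortExact hS
  let ψ := Coh.toGlobal (X ↘ Spec (CommRingCat.of k))
  let F : ∀ {M N : X.Modules} (f : M ⟶ N) (n : ℕ), Coh.HH X M n →ₗ[k] Coh.HH X N n := fun {M N} f n =>
    { toFun := Sheaf.H.map ((QCohLib.toAbF X).map f) n
      map_add' := map_add _
      map_smul' := fun a x => by
        show Sheaf.H.map _ n (Sheaf.H.map (Coh.smulAb M (ψ a)) n x) =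
          Sheaf.H.map (Coh.smulAb N (ψ a)) n (Sheaf.H.map _ n x)
        rw [← Sheaf.H.map_comp_apply, ← Sheaf.H.map_comp_apply]
        exact congrArg (fun k => Sheaf.H.map k n x) (ProjCoh.smulAb_natural f (ψ a)) }
  let δ : ∀ n : ℕ, Coh.HH X S.X₃ n →ₗ[k] Coh.HH X S.X₁ (n + 1) := fun n =>
    { toFun := hS'.extClass.postcomp _ rfl
      map_add' := map_add _
      map_smul' := fun a x => by
        show (x.comp (Abelian.Ext.mk₀ (Coh.smulAb S.X₃ (ψ a))) (add_zero n)).comp hS'.extClass rfl =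
          (x.comp hS'.extClass rfl).comp (Abelian.Ext.mk₀ (Coh.smulAb S.X₁ (ψ a))) (add_zero (n + 1))
        rw [Abelian.Ext.comp_assoc_of_second_deg_zero, Abelian.Ext.comp_assoc_of_third_deg_zero]
        exact congrArg (fun e => x.comp e rfl)
          (ShortComplex.ShortExact.extClass_naturality hS' hS' (ProperFin.smulSeq S (ψ a))).symm }
  have e2 : ∀ n, LinearMap.range (F S.f n) = LinearMap.ker (F S.g n) := fun n => by
    refine le_antisymm ?_ fun x hx => Abelian.Ext.covariant_sequence_exact₂ _ hS' x hx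
    rintro _ ⟨x, rfl⟩
    show Sheaf.H.map _ n (Sheaf.H.map _ n x) = 0
    rw [← Sheaf.H.map_comp_apply]
    refine Eq.trans (congrArg (fun k => Sheaf.H.map k n x) (S.map (QCohLib.toAbF X)).zero) ?_
    show x.comp (Abelian.Ext.mk₀ 0) (add_zero n) = 0
    rw [Abelian.Ext.mk₀_zero, Abelian.Ext.comp_zero]
  have e1 : ∀ n, LinearMap.range (δ n) = LinearMap.ker (F S.f (n + 1)) := fun n => by
    refine le_antisymm ?_ fun x hx => Abelian.Ext.covariant_sequence_exact₁ _ hS' x hx rfl
    rintro _ ⟨x, rfl⟩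
    show (x.comp hS'.extClass rfl).comp (Abelian.Ext.mk₀ (S.map (QCohLib.toAbF X)).f) (add_zero (n + 1)) = 0
    refine (Abelian.Ext.comp_assoc_of_third_deg_zero _ _ _ _).trans ?_
    exact (congrArg (fun e => x.comp e rfl) hS'.extClass_comp).trans (Abelian.Ext.comp_zero _ _ _ _ _)
  haveI := fun n => finite_HH (k := k) h₁ n
  haveI := fun n => finite_HH (k := k) h₂ n
  haveI := fun n => finite_HH (k := k) h₃ n
  haveI := hS'.mono_f
  exact ⟨LinearMap.finrank_le_finrank_of_injective (f := F S.f 0) fun a b h =>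
      Abelian.Ext.postcomp_mk₀_injective_of_mono _ (S.map (QCohLib.toAbF X)).f h,
    fun n => (finrank_le_add (δ n) (F S.f (n + 1)) (e1 n)).trans (Nat.add_comm _ _).le,
    fun n => finrank_le_add (F S.f n) (F S.g n) (e2 n)⟩

variable (C : ℕ → X.Modules) (d : ∀ j, C j ⟶ C (j + 1)) (hd : ∀ j, d j ≫ d (j + 1) = 0)

/-- `C (j+1)` maps onto the next kernel. -/
def kSeq (j : ℕ) : ShortComplex X.Modules :=
  ShortComplex.mk (kernel.ι (d (j + 1))) (kernel.lift (d (j + 1 + 1)) (d (j + 1)) (hd (j + 1)))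
    (by rw [← cancel_mono (kernel.ι (d (j + 1 + 1))), Category.assoc, kernel.lift_ι, kernel.condition, zero_comp])

theorem isKernel_lift {A B D E : X.Modules} (f : A ⟶ B) (g : B ⟶ D) (w : f ≫ g = 0) (u : D ⟶ E) (l : B ⟶ kernel u)
    (hl : l ≫ kernel.ι u = g) (hf : IsLimit (KernelFork.ofι f w)) (w' : f ≫ l = 0) [Mono f] [Epi l] :
    (ShortComplex.mk f l w').ShortExact := by
  refine ShortComplex.ShortExact.mk' (ShortComplex.exact_of_f_is_kernel _ ?_) ‹_› ‹_›
  exact KernelFork.IsLimit.ofι _ _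
    (fun {W} m hm => hf.lift (KernelFork.ofι m (by rw [← hl, reassoc_of% hm, zero_comp])))
    (fun {W} m hm => hf.fac _ WalkingParallelPair.zero)
    (fun {W} m hm m' hm' => by
      rw [← cancel_mono f]
      exact hm'.trans (hf.fac (KernelFork.ofι m (by rw [← hl, reassoc_of% hm, zero_comp])) WalkingParallelPair.zero).symm)

theorem kSeq_shortExact (hex : ∀ j, (ShortComplex.mk (d j) (d (j + 1)) (hd j)).Exact) (j : ℕ) :
    (kSeq C d hd j).ShortExact := by
  haveI : Epi (kernel.lift (d (j + 1 + 1)) (d (j + 1)) (hd (j + 1))) :=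
    (ShortComplex.exact_iff_epi_kernel_lift _).1 (hex (j + 1))
  exact isKernel_lift (kernel.ι (d (j + 1))) (d (j + 1)) (kernel.condition _) (d (j + 1 + 1)) _
    (kernel.lift_ι _ _ _) (kernelIsKernel _) _

/-- The first piece. -/
def fSeq : ShortComplex X.Modules :=
  ShortComplex.mk (d 0) (kernel.lift (d 2) (d 1) (hd 1))
    (by rw [← cancel_mono (kernel.ι (d 2)), Category.assoc, kernel.lift_ι, hd, zero_comp])

theorem fSeq_shortExact [Mono (d 0)] (hex : ∀ j, (ShortComplex.mk (d j) (d (j + 1)) (hd j)).Exact) :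
    (fSeq C d hd).ShortExact := by
  haveI : Epi (kernel.lift (d 2) (d 1) (hd 1)) := (ShortComplex.exact_iff_epi_kernel_lift _).1 (hex 1)
  refine ShortComplex.ShortExact.mk' ?_ ‹Mono (d 0)› this
  let φ : fSeq C d hd ⟶ ShortComplex.mk (d 0) (d 1) (hd 0) :=
    { τ₁ := 𝟙 _, τ₂ := 𝟙 _, τ₃ := kernel.ι (d 2), comm₁₂ := by simp [fSeq], comm₂₃ := by simp [fSeq] }
  haveI : Epi φ.τ₁ := inferInstanceAs (Epi (𝟙 (C 0)))
  haveI : IsIso φ.τ₂ := inferInstanceAs (IsIso (𝟙 (C 1)))
  haveI : Mono φ.τ₃ := inferInstanceAs (Mono (kernel.ι (d 2)))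
  exact (ShortComplex.exact_iff_of_epi_of_isIso_of_mono φ).2 (hex 0)

include hd in
theorem finrank_kernel_le (hC : ∀ j, Coh.IsCoh (C j))
    (hex : ∀ j, (ShortComplex.mk (d j) (d (j + 1)) (hd j)).Exact) : ∀ (m j : ℕ),
    Module.finrank k (Coh.HH X (kernel (d (j + 1))) m) ≤
      (Finset.range (m + 1)).sum fun t => Module.finrank k (Coh.HH X (C (j + 1 + t)) (m - t)) := by
  haveI := isNoetherian_proper (X := X) k
  have hK : ∀ j, Coh.IsCoh (kernel (d j)) := fun j =>
    (QCohLib.isCoh_kernel_cokernel (d j) (hC j) (hC (j + 1))).1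
  intro m
  induction m with
  | zero =>
    intro j
    simpa [kSeq] using (ineqs (k := k) _ (kSeq_shortExact C d hd hex j) (hK _) (hC _) (hK _)).1
  | succ m ih =>
    intro j
    refine ((ineqs (k := k) _ (kSeq_shortExact C d hd hex j) (hK _) (hC _) (hK _)).2.1 m).trans ?_
    rw [Finset.sum_range_succ']
    refine (Nat.add_le_add le_rfl (ih (j + 1))).trans ?_
    rw [Nat.add_comm]
    refine Nat.add_le_add (le_of_eq (Finset.sum_congr rfl fun t _ => ?_)) le_rfl
    rw [show j + 1 + (t + 1) = j + 1 + 1 + t by omega, Nat.add_sub_add_right]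

theorem sum_Icc_one (n : ℕ) (f : ℕ → ℤ) : (Finset.Icc 1 n).sum f = (Finset.range n).sum fun t => f (t + 1) := by
  induction n with
  | zero => simp
  | succ n ih => rw [Finset.sum_Icc_succ_top (by omega), ih, Finset.sum_range_succ]

include hd in
theorem abs_sub_le [Mono (d 0)] (hC : ∀ j, Coh.IsCoh (C j))
    (hex : ∀ j, (ShortComplex.mk (d j) (d (j + 1)) (hd j)).Exact) (i : ℕ) :
    |(Module.finrank k (Coh.HH X (C 0) i) : ℤ) - (Module.finrank k (Coh.HH X (C 1) i) : ℤ)| ≤
      (Finset.Icc 1 (i + 1)).sum (fun j => ((Module.finrank k (Coh.HH X (C (j + 1)) (i + 1 - j))) : ℤ)) +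
        (Finset.Icc 1 i).sum (fun j => ((Module.finrank k (Coh.HH X (C (j + 1)) (i - j))) : ℤ)) := by
  haveI := isNoetherian_proper (X := X) k
  have hK : ∀ j, Coh.IsCoh (kernel (d j)) := fun j =>
    (QCohLib.isCoh_kernel_cokernel (d j) (hC j) (hC (j + 1))).1
  obtain ⟨h0, h1, h2⟩ := ineqs (k := k) _ (fSeq_shortExact C d hd hex) (hC 0) (hC 1) (hK 2)
  simp only [fSeq] at h0 h1 h2
  have hk : ∀ m, (Module.finrank k (Coh.HH X (kernel (d 2)) m) : ℤ) ≤
      (Finset.range (m + 1)).sum fun t => ((Module.finrank k (Coh.HH X (C (2 + t)) (m - t))) : ℤ) := fun m => by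
    exact_mod_cast finrank_kernel_le (k := k) C d hd hC hex m 1
  rw [sum_Icc_one, sum_Icc_one]
  have e1 : (Finset.range (i + 1)).sum (fun t => ((Module.finrank k (Coh.HH X (C (t + 1 + 1)) (i + 1 - (t + 1)))) : ℤ)) =
      (Finset.range (i + 1)).sum fun t => ((Module.finrank k (Coh.HH X (C (2 + t)) (i - t))) : ℤ) :=
    Finset.sum_congr rfl fun t _ => by rw [Nat.add_sub_add_right, show t + 1 + 1 = 2 + t by omega]
  rw [e1, abs_le]
  have hA := hk i
  have hup : (Module.finrank k (Coh.HH X (C 1) i) : ℤ) ≤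
      Module.finrank k (Coh.HH X (C 0) i) + Module.finrank k (Coh.HH X (kernel (d 2)) i) := by
    exact_mod_cast h2 i
  have hnn : (0 : ℤ) ≤ (Finset.range (i + 1)).sum fun t => ((Module.finrank k (Coh.HH X (C (2 + t)) (i - t))) : ℤ) :=
    Finset.sum_nonneg fun _ _ => Int.natCast_nonneg _
  cases i with
  | zero =>
    have hlow : (Module.finrank k (Coh.HH X (C 0) 0) : ℤ) ≤ Module.finrank k (Coh.HH X (C 1) 0) := by
      exact_mod_cast h0
    simp only [Finset.range_zero, Finset.sum_empty, add_zero]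
    constructor <;> linarith
  | succ n =>
    have hlow : (Module.finrank k (Coh.HH X (C 0) (n + 1)) : ℤ) ≤
        Module.finrank k (Coh.HH X (C 1) (n + 1)) + Module.finrank k (Coh.HH X (kernel (d 2)) n) := by
      exact_mod_cast h1 n
    have hB := hk n
    have e2 : (Finset.range (n + 1)).sum (fun t => ((Module.finrank k (Coh.HH X (C (t + 1 + 1)) (n + 1 - (t + 1)))) : ℤ)) =
        (Finset.range (n + 1)).sum fun t => ((Module.finrank k (Coh.HH X (C (2 + t)) (n - t))) : ℤ) :=
      Finset.sum_congr rfl fun t _ => by rw [Nat.add_sub_add_right, show t + 1 + 1 = 2 + t by omega]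
    rw [e2]
    have hnn' : (0 : ℤ) ≤ (Finset.range (n + 1)).sum fun t => ((Module.finrank k (Coh.HH X (C (2 + t)) (n - t))) : ℤ) :=
      Finset.sum_nonneg fun _ _ => Int.natCast_nonneg _
    constructor <;> linarith

end Groth.Agent.EulerIneqLib
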